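import Cfsg.Agent.Lib.J1Unique.Bad1.Data

/-! Generated data of the amalgam certificates. -/

set_option autoImplicit false
set_option maxRecDepth 100000

namespace Cfsg.Lib.J1Unique.Bad1

open Cfsg.Lib.CosetEnum
theorem defs_ok : defsOK tabF 2079 0 = true := by decide +kernel

end Cfsg.Lib.J1Unique.Bad1
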